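import Groth.Agent.GorLib.KoszFlat
import Groth.Agent.NilFlatLib.Basic
import Groth.Agent.KoszDetLib.Cone
import Mathlib

/-!
# Koszul exactness and flatness of the quotient lift along a square-zero thickening of the base
-/

set_option autoImplicit false
set_option backward.isDefEq.respectTransparency.types false

universe u

open KoszDetLib TensorProduct

namespace KoszSqLib

noncomputable section

section General

variable {A : Type u} [CommRing A] (J : Ideal A)

theorem exists_fin_of_mem_smul_top {M : Type u} [AddCommGroup M] [Module A M] {x : M}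
    (hx : x ∈ J • (⊤ : Submodule A M)) :
    ∃ (k : ℕ) (j : Fin k → A) (y : Fin k → M), (∀ i, j i ∈ J) ∧ ∑ i, j i • y i = x := by
  refine Submodule.smul_induction_on hx (fun r hr n _ => ⟨1, fun _ => r, fun _ => n, fun _ => hr, by simp⟩) ?_
  rintro x y ⟨k, j, v, hj, rfl⟩ ⟨k', j', v', hj', rfl⟩
  refine ⟨k + k', Fin.append j j', Fin.append v v', fun i => ?_, ?_⟩
  · induction i using Fin.addCases with
    | left i => rw [Fin.append_left]; exact hj i
    | right i => rw [Fin.append_right]; exact hj' i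
  · rw [Fin.sum_univ_add]
    simp

/-- The reduction of a module, identified through a surjection. -/
def reduceEquiv {M N : Type u} [AddCommGroup M] [Module A M] [AddCommGroup N] [Module A N] [Module (A ⧸ J) N]
    [IsScalarTower A (A ⧸ J) N] (ψ : M →ₗ[A] N) (hs : Function.Surjective ψ)
    (hk : LinearMap.ker ψ = J • ⊤) : ((A ⧸ J) ⊗[A] M) ≃ₗ[A ⧸ J] N :=
  ((quotTensorEquivQuotSMul M J).trans
    ((Submodule.quotEquivOfEq _ _ hk.symm).trans
      (ψ.quotKerEquivOfSurjective hs))).extendScalarsOfSurjective Ideal.Quotient.mk_surjective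

variable {B : Type u} [CommRing B] [Algebra A B]

theorem mem_map_iff {x : B} : x ∈ J.map (algebraMap A B) ↔ x ∈ J • (⊤ : Submodule A B) := by
  rw [Ideal.smul_top_eq_map]
  rfl

instance flat_reduction [Module.Flat A B] : Module.Flat (A ⧸ J) (B ⧸ J.map (algebraMap A B)) :=
  Module.Flat.of_linearEquiv (reduceEquiv J ((Ideal.Quotient.mkₐ A (J.map (algebraMap A B))).toLinearMap)
    Ideal.Quotient.mk_surjective (by
      ext x
      rw [LinearMap.mem_ker, ← mem_map_iff]
      exact Ideal.Quotient.eq_zero_iff_mem)).symm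

/-- Flatness of a quotient from flatness of its reduction modulo an ideal of square zero. -/
theorem flat_quotient_of_sq [Module.Flat A B] (hJ : J * J = ⊥) (I : Ideal B)
    [Module.Flat (A ⧸ J) ((B ⧸ J.map (algebraMap A B)) ⧸ I.map (Ideal.Quotient.mk (J.map (algebraMap A B))))]
    (hI : ∀ b ∈ I, b ∈ J.map (algebraMap A B) → b ∈ J.map (algebraMap A B) * I) :
    Module.Flat A (B ⧸ I) := by
  let K := J.map (algebraMap A B)
  let φ : B →ₐ[A] (B ⧸ K) ⧸ I.map (Ideal.Quotient.mk K) :=
    (Ideal.Quotient.mkₐ A (I.map (Ideal.Quotient.mk K))).comp (Ideal.Quotient.mkₐ A K)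
  let π : B →ₐ[A] B ⧸ I := Ideal.Quotient.mkₐ A I
  let ψ : (B ⧸ I) →ₐ[A] (B ⧸ K) ⧸ I.map (Ideal.Quotient.mk K) := Ideal.Quotient.liftₐ I φ fun a ha =>
    Ideal.Quotient.eq_zero_iff_mem.2 (Ideal.mem_map_of_mem _ ha)
  have hψ : ∀ b, ψ (π b) = φ b := fun b => rfl
  have hφ : Function.Surjective φ := Ideal.Quotient.mk_surjective.comp Ideal.Quotient.mk_surjective
  have hk : LinearMap.ker ψ.toLinearMap = J • (⊤ : Submodule A (B ⧸ I)) := by
    refine le_antisymm (fun c hc => ?_) ?_
    · obtain ⟨b, rfl⟩ := Ideal.Quotient.mk_surjective c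
      have hb : b ∈ I ⊔ K := by
        rw [← Ideal.mem_quotient_iff_mem_sup, ← Ideal.Quotient.eq_zero_iff_mem]
        exact hc
      obtain ⟨i, hi, k, hk, rfl⟩ := Submodule.mem_sup.1 hb
      rw [map_add, Ideal.Quotient.eq_zero_iff_mem.2 hi, zero_add]
      have h := Submodule.mem_map_of_mem (f := π.toLinearMap) ((mem_map_iff J).1 hk)
      rw [Submodule.map_smul''] at h
      exact Submodule.smul_mono le_rfl le_top h
    · refine Submodule.smul_le.2 fun r hr n _ => ?_
      rw [LinearMap.mem_ker, map_smul, ← IsScalarTower.algebraMap_smul (A ⧸ J) r, Ideal.Quotient.algebraMap_eq,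
        Ideal.Quotient.eq_zero_iff_mem.2 hr, zero_smul]
  haveI : Module.Flat (A ⧸ J) ((A ⧸ J) ⊗[A] (B ⧸ I)) :=
    Module.Flat.of_linearEquiv (reduceEquiv J ψ.toLinearMap
      (fun y => let ⟨b, hb⟩ := hφ y; ⟨π b, hb⟩) hk)
  refine NilFlatLib.flat_of_isNilpotent (I := J) ⟨2, by rw [pow_two, hJ]; rfl⟩ ?_
  refine (injective_iff_map_eq_zero _).2 fun z hz => ?_
  obtain ⟨w, rfl⟩ := LinearMap.lTensor_surjective J (g := π.toLinearMap) Ideal.Quotient.mk_surjective z
  let μ : ↥J ⊗[A] B →ₗ[A] B := (TensorProduct.lid A B).toLinearMap ∘ₗ (Submodule.subtype J).rTensor B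
  have hμ : Function.Injective μ := (TensorProduct.lid A B).injective.comp
    (Module.Flat.rTensor_preserves_injective_linearMap _ Subtype.val_injective)
  have hnat : ∀ u : ↥J ⊗[A] B, TensorProduct.lid A (B ⧸ I) ((Submodule.subtype J).rTensor (B ⧸ I)
      (π.toLinearMap.lTensor J u)) = π (μ u) := fun u => by
    induction u using TensorProduct.induction_on with
    | zero => simp
    | tmul j b => simp [μ]
    | add u v hu hv => simp only [map_add, hu, hv]
  have hmem : μ w ∈ I := by
    rw [← Ideal.Quotient.eq_zero_iff_mem]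
    show π (μ w) = 0
    rw [← hnat, hz, map_zero]
  have hrange : ∀ x ∈ K, ∃ u, μ u = x := fun x hx => by
    refine Submodule.smul_induction_on ((mem_map_iff J).1 hx) (fun r hr n _ => ⟨⟨r, hr⟩ ⊗ₜ n, by simp [μ]⟩) ?_
    rintro x y ⟨u, rfl⟩ ⟨v, rfl⟩
    exact ⟨u + v, map_add _ _ _⟩
  have hK : μ w ∈ K := by
    have : ∀ u, μ u ∈ K := fun u => by
      induction u using TensorProduct.induction_on with
      | zero => simp
      | tmul j b =>
        rw [mem_map_iff]
        exact (show μ (j ⊗ₜ[A] b) = (j : A) • b by simp [μ]) ▸ Submodule.smul_mem_smul j.2 trivial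
      | add u v hu hv => rw [map_add]; exact add_mem hu hv
    exact this w
  have hmul : ∀ u y, μ ((LinearMap.mulRight A y).lTensor J u) = μ u * y := fun u y => by
    induction u using TensorProduct.induction_on with
    | zero => simp
    | tmul j b => simp [μ]
    | add u v hu hv => simp only [map_add, hu, hv, add_mul]
  obtain ⟨v, hv, hv0⟩ : ∃ v, μ v = μ w ∧ π.toLinearMap.lTensor J v = 0 := by
    refine Submodule.mul_induction_on (hI _ hmem hK) ?_ ?_
    · intro k hk y hy
      obtain ⟨u, rfl⟩ := hrange k hk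
      refine ⟨(LinearMap.mulRight A y).lTensor J u, ?_, ?_⟩
      · exact hmul u y
      · rw [← LinearMap.lTensor_comp_apply,
          show π.toLinearMap ∘ₗ LinearMap.mulRight A y = 0 from LinearMap.ext fun b =>
            Ideal.Quotient.eq_zero_iff_mem.2 (Ideal.mul_mem_left _ _ hy), LinearMap.lTensor_zero]
        rfl
    · rintro x y ⟨u, hu, hu0⟩ ⟨v, hv, hv0⟩
      exact ⟨u + v, by rw [map_add, hu, hv], by rw [map_add, hu0, hv0, add_zero]⟩
  rw [← hμ hv, hv0]

end General

section Kosz

variable {A B : Type u} [CommRing A] [CommRing B] [Algebra A B] (J : Ideal A) {n : ℕ} (f : Fin n → B)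

local notation "σ" => Ideal.Quotient.mk (Ideal.map (algebraMap A B) J)

theorem mapK_smul_base (a : A) (x : Kz B n) :
    KRLib.mapK σ (a • x) = Ideal.Quotient.mk J a • KRLib.mapK σ x :=
  funext fun s => by
    show σ (a • x s) = Ideal.Quotient.mk J a • σ (x s)
    rw [Algebra.smul_def, map_mul, Algebra.smul_def]
    rfl

theorem mapK_proj (p : ℕ) (x : Kz B n) : KRLib.mapK σ (proj p x) = proj p (KRLib.mapK σ x) :=
  funext fun s => by
    show σ (proj p x s) = _
    rw [proj_apply, proj_apply]
    split_ifs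
    · rfl
    · exact map_zero σ

theorem mapK_surjective : Function.Surjective (KRLib.mapK σ : Kz B n →+ _) := fun x => by
  choose y hy using fun s => Ideal.Quotient.mk_surjective (x s)
  exact ⟨y, funext hy⟩

theorem mem_smul_top_of_mapK {x : Kz B n} (hx : KRLib.mapK σ x = 0) : x ∈ J • (⊤ : Submodule A (Kz B n)) := by
  haveI := finite_idx n
  haveI := Fintype.ofFinite (Idx n)
  rw [show x = ∑ s, LinearMap.single A (fun _ : Idx n => B) s (x s) from (Finset.univ_sum_single x).symm]
  refine Submodule.sum_mem _ fun s _ => ?_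
  have h := Submodule.mem_map_of_mem (f := LinearMap.single A (fun _ : Idx n => B) s)
    ((mem_map_iff J).1 (Ideal.Quotient.eq_zero_iff_mem.1 (congrFun hx s)))
  rw [Submodule.map_smul''] at h
  exact Submodule.smul_mono le_rfl le_top h

theorem D_smul_base (a : A) (x : Kz B n) : D f (a • x) = a • D f x := LinearMap.map_smul_of_tower _ a x

theorem proj_smul_base (p : ℕ) (a : A) (x : Kz B n) : proj p (a • x) = a • proj p x :=
  LinearMap.map_smul_of_tower _ a x

theorem smul_eq_zero_of_mapK (hJ : J * J = ⊥) {a : A} (ha : a ∈ J) {x : Kz B n} (hx : KRLib.mapK σ x = 0) :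
    a • x = 0 := by
  refine Submodule.smul_induction_on (mem_smul_top_of_mapK J hx) (fun r hr y _ => ?_) fun u v hu hv => ?_
  · rw [smul_smul, show a * r = 0 from (Ideal.mem_bot).1 (hJ ▸ Ideal.mul_mem_mul ha hr), zero_smul]
  · rw [smul_add, hu, hv, add_zero]

/-- A positive degree cycle with entries in `J` is a boundary. -/
theorem boundary_of_mem [Module.Flat A B] (hJ : J * J = ⊥) (hf : IsExactK fun i => σ (f i))
    [Module.Flat (A ⧸ J) ((B ⧸ J.map (algebraMap A B)) ⧸ Ideal.span (Set.range fun i => σ (f i)))]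
    (p : ℕ) (x : Kz B n) (hp : proj (p + 1) x = x) (hD : D f x = 0) (hx : KRLib.mapK σ x = 0) :
    x ∈ LinearMap.range (D f) := by
  classical
  obtain ⟨k, j, y, hj, hsum⟩ := exists_fin_of_mem_smul_top J (mem_smul_top_of_mapK J hx)
  let y' : Fin k → Kz B n := fun i => proj (p + 1) (y i)
  have hsum' : ∑ i, j i • y' i = x := by
    rw [← hp, ← hsum, map_sum]
    simp only [y', proj_smul_base]
  have hrel : ∑ i, j i • D f (y' i) = 0 := by
    rw [← hD, ← hsum', map_sum]
    simp only [D_smul_base]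
  obtain ⟨m, a, u, hu, ha⟩ := Module.Flat.isTrivialRelation_of_sum_smul_eq_zero (R := A) hrel
  let f' := fun i => σ (f i)
  let R := LinearMap.range (GorLib.dD (A := A ⧸ J) f' (p + 1))
  haveI := GorLib.flat_coker_dD (A ⧸ J) f' hf p
  let X : (Fin m → A ⧸ J) →ₗ[A ⧸ J] Kz (B ⧸ J.map (algebraMap A B)) n ⧸ R :=
    Fintype.linearCombination (A ⧸ J) fun l => R.mkQ (KRLib.mapK σ (u l))
  let F : (Fin k → A ⧸ J) →ₗ[A ⧸ J] (Fin m → A ⧸ J) :=
    Fintype.linearCombination (A ⧸ J) fun i l => Ideal.Quotient.mk J (a i l)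
  have hmapy : ∀ i, KRLib.mapK σ (D f (y' i)) = D f' (KRLib.mapK σ (y' i)) := fun i => KRLib.mapK_D σ f _
  have hyu : ∀ i, D f' (KRLib.mapK σ (y' i)) = ∑ l, Ideal.Quotient.mk J (a i l) • KRLib.mapK σ (u l) := fun i => by
    rw [← hmapy, show D f (y' i) = ∑ l, a i l • u l from hu i, map_sum]
    simp only [mapK_smul_base]
  have hXF : X ∘ₗ F = 0 := by
    refine LinearMap.pi_ext' fun i => LinearMap.ext_ring ?_
    show X (F (Pi.single i 1)) = 0
    simp only [F, Fintype.linearCombination_apply_single, one_smul]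
    simp only [X, Fintype.linearCombination_apply, ← map_smul]
    rw [← map_sum, ← hyu]
    rw [Submodule.mkQ_apply, Submodule.Quotient.mk_eq_zero]
    refine ⟨KRLib.mapK σ (y' i), ?_⟩
    show D f' (proj (p + 1) (KRLib.mapK σ (y' i))) = D f' (KRLib.mapK σ (y' i))
    rw [← mapK_proj, proj_proj]
  obtain ⟨q, a', Y, hXY, ha'⟩ := Module.Flat.exists_factorization_of_comp_eq_zero_of_free hXF
  choose v hv using fun c : Fin q => R.mkQ_surjective (Y (Finsupp.single c 1))
  let V : (Fin q →₀ A ⧸ J) →ₗ[A ⧸ J] Kz (B ⧸ J.map (algebraMap A B)) n := Finsupp.linearCombination (A ⧸ J) v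
  have hV : ∀ c, R.mkQ (V c) = Y c := fun c => by
    refine LinearMap.congr_fun (f := R.mkQ ∘ₗ V) (g := Y) ?_ c
    refine Finsupp.lhom_ext' fun c => LinearMap.ext_ring ?_
    simp [V, ← hv]
  have ht : ∀ l, ∃ t, KRLib.mapK σ (u l) - V (a' (Pi.single l 1)) =
      D f' (proj (p + 1) (KRLib.mapK σ t)) := fun l => by
    have h : R.mkQ (KRLib.mapK σ (u l) - V (a' (Pi.single l 1))) = 0 := by
      rw [map_sub, hV, sub_eq_zero, ← LinearMap.comp_apply, ← hXY]
      simp [X, Fintype.linearCombination_apply_single]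
    rw [Submodule.mkQ_apply, Submodule.Quotient.mk_eq_zero] at h
    obtain ⟨t, ht⟩ := h
    obtain ⟨t, rfl⟩ := mapK_surjective J t
    exact ⟨t, ht.symm⟩
  choose t ht using ht
  have hcyc : ∀ i, ∃ w, D f' (KRLib.mapK σ w) =
      KRLib.mapK σ (proj (p + 1) (y' i - ∑ l, a i l • proj (p + 1) (t l))) := fun i => by
    let c := KRLib.mapK σ (proj (p + 1) (y' i - ∑ l, a i l • proj (p + 1) (t l)))
    have hzero : ∑ l, Ideal.Quotient.mk J (a i l) • V (a' (Pi.single l 1)) = 0 := by
      simp only [← map_smul]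
      rw [← map_sum, ← map_sum]
      have h := LinearMap.congr_fun ha' (Pi.single i 1)
      rw [LinearMap.comp_apply, LinearMap.zero_apply] at h
      have h2 : F (Pi.single i 1) = ∑ l, Ideal.Quotient.mk J (a i l) • (Pi.single l 1 : Fin m → A ⧸ J) := by
        funext l
        simp [F, Fintype.linearCombination_apply_single, Finset.sum_apply, Pi.single_apply]
      rw [← h2, h, map_zero]
    have hc : D f' c = 0 := by
      simp only [c, map_sub, map_sum, proj_smul_base, proj_proj, y', mapK_smul_base, mapK_proj]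
      simp only [map_smul, LinearMap.map_smul_of_tower]
      have h1 := hyu i
      simp only [y', mapK_proj] at h1
      rw [h1, ← Finset.sum_sub_distrib]
      simp only [← smul_sub]
      rw [← hzero]
      refine Finset.sum_congr rfl fun l _ => ?_
      congr 1
      rw [← ht l]
      abel
    have he : eps c ∈ Ideal.span (Set.range f') := by
      simp only [c, mapK_proj]
      rw [GorLib.eps_proj_succ]
      exact Ideal.zero_mem _
    obtain ⟨w, hw⟩ := hf c hc he
    obtain ⟨w, rfl⟩ := mapK_surjective J w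
    exact ⟨w, hw⟩
  choose w hw using hcyc
  refine ⟨∑ i, j i • w i, ?_⟩
  have hdiff : ∀ i, j i • D f (w i) = j i • proj (p + 1) (y' i - ∑ l, a i l • proj (p + 1) (t l)) := fun i => by
    rw [← sub_eq_zero, ← smul_sub]
    refine smul_eq_zero_of_mapK J hJ (hj i) ?_
    rw [map_sub, KRLib.mapK_D, hw, sub_self]
  rw [map_sum]
  simp only [D_smul_base, hdiff, map_sub, map_sum, smul_sub, Finset.smul_sum, proj_smul_base, proj_proj, y',
    smul_smul]
  rw [Finset.sum_sub_distrib, Finset.sum_comm (f := fun i l => (j i * a i l) • _)]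
  simp only [← Finset.sum_smul, ha, zero_smul, Finset.sum_const_zero, sub_zero]
  exact hsum'

/-- Koszul exactness lifts along a square-zero thickening of the base. -/
theorem isExactK_of_sq [Module.Flat A B] (hJ : J * J = ⊥) (hf : IsExactK fun i => σ (f i))
    [Module.Flat (A ⧸ J) ((B ⧸ J.map (algebraMap A B)) ⧸ Ideal.span (Set.range fun i => σ (f i)))] :
    IsExactK f := by
  intro x hx he
  rw [← sum_proj x]
  refine Submodule.sum_mem _ fun p _ => ?_
  cases p with
  | zero => rw [proj_zero_eq]; exact mem_range_proj_zero f _ he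
  | succ p =>
    have hcyc : D f (proj (p + 1) x) = 0 := by rw [D_proj_succ, hx, map_zero]
    have hcyc' : D (fun i => σ (f i)) (KRLib.mapK σ (proj (p + 1) x)) = 0 := by
      rw [← KRLib.mapK_D, hcyc, map_zero]
    obtain ⟨w, hw⟩ := hf _ hcyc' (by rw [mapK_proj, GorLib.eps_proj_succ]; exact Ideal.zero_mem _)
    obtain ⟨w, rfl⟩ := mapK_surjective J w
    let x' := proj (p + 1) x - D f (proj (p + 2) w)
    have hmem : x' ∈ LinearMap.range (D f) := by
      refine boundary_of_mem J f hJ hf p x' ?_ ?_ ?_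
      · simp only [x', map_sub, proj_proj, D_proj_succ]
      · simp only [x', map_sub, hcyc, D_D, sub_zero]
      · rw [map_sub, KRLib.mapK_D, mapK_proj J (p + 2), D_proj_succ, hw, ← mapK_proj, proj_proj, sub_self]
    simpa [x'] using Submodule.add_mem _ hmem (LinearMap.mem_range_self (D f) (proj (p + 2) w))

/-- The quotient by a Koszul exact family with flat reduction is flat. -/
theorem flat_of_sq [Module.Flat A B] (hJ : J * J = ⊥) (hf : IsExactK fun i => σ (f i))
    [hfl : Module.Flat (A ⧸ J) ((B ⧸ J.map (algebraMap A B)) ⧸ Ideal.span (Set.range fun i => σ (f i)))] :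
    Module.Flat A (B ⧸ Ideal.span (Set.range f)) := by
  haveI : Module.Flat (A ⧸ J) ((B ⧸ J.map (algebraMap A B)) ⧸ (Ideal.span (Set.range f)).map σ) := by
    rw [Ideal.map_span, ← Set.range_comp]
    exact hfl
  refine flat_quotient_of_sq J hJ _ fun b hb hbK => ?_
  obtain ⟨w, hw⟩ := mem_range_proj_zero f b hb
  let h' := KRLib.mapK σ (proj 1 w)
  have hD1 : D f (proj 1 w) = b • one n := by
    rw [D_proj_succ f 0 w, hw, map_smul, proj_zero_eq, eps_one, one_smul]
  have hcyc : D (fun i => σ (f i)) h' = 0 := by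
    rw [← KRLib.mapK_D, hD1, KRLib.mapK_smul, Ideal.Quotient.eq_zero_iff_mem.2 hbK, zero_smul]
  obtain ⟨v, hv⟩ := hf h' hcyc (by rw [show eps h' = 0 by simp only [h', mapK_proj, GorLib.eps_proj_succ]]; exact Ideal.zero_mem _)
  obtain ⟨v, rfl⟩ := mapK_surjective J v
  let h := proj 1 w - D f v
  have hh : ∀ s, h s ∈ J.map (algebraMap A B) := fun s => by
    rw [← Ideal.Quotient.eq_zero_iff_mem]
    refine congrFun (show KRLib.mapK σ h = 0 from ?_) s
    rw [map_sub, KRLib.mapK_D, hv, sub_self]
  have hDh : D f h = b • one n := by rw [map_sub, D_D, sub_zero, hD1]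
  haveI := finite_idx n
  haveI := Fintype.ofFinite (Idx n)
  have hb' : b = ∑ s, h s * D f (Pi.single s 1) (bot n) := by
    have h1 : h = ∑ s, h s • Pi.single s (1 : B) := by
      funext s'
      simp [Finset.sum_apply, Pi.single_apply]
    have h2 := congrArg eps hDh
    rw [map_smul, eps_one, smul_eq_mul, mul_one] at h2
    rw [← h2, h1, map_sum]
    simp only [map_sum, map_smul, smul_eq_mul, ← h1]
    rfl
  rw [hb']
  exact Submodule.sum_mem _ fun s _ => Ideal.mul_mem_mul (hh s) (D_mem f _ _)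

end Kosz

end

end KoszSqLib
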